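import Mathlib
import Groth.Agent.Lib.Helper5.DefId.A

set_option autoImplicit false
universe u

open TensorProduct IsLocalRing

namespace Groth.Agent.H5.DefAut

open Groth.Agent.H5.DefId

variable {C' : Type u} [CommRing C'] [IsLocalRing C'] (J : Ideal C')
variable {A' : Type u} [CommRing A'] [Algebra C' A']
variable (M' : Type u) [AddCommGroup M'] [Module A' M'] [Module C' M'] [IsScalarTower C' A' M']

variable (C' A') in
/-- `𝔪 M'` as an `A'`-submodule. -/
abbrev Nsub : Submodule A' M' := ((maximalIdeal C').map (algebraMap C' A')) • (⊤ : Submodule A' M')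

variable (A') in
/-- `J M'` as an `A'`-submodule. -/
abbrev JM : Submodule A' M' := (J.map (algebraMap C' A')) • (⊤ : Submodule A' M')

variable (C' A') in
/-- the quotient map, `C'`-linear. -/
abbrev piC : M' →ₗ[C'] (M' ⧸ Nsub C' A' M') := (Submodule.mkQ (Nsub C' A' M')).restrictScalars C'

variable (A') in
/-- `M' ⊗ J → M₀ ⊗ J`. -/
noncomputable abbrev Q : M' ⊗[C'] ↥J →ₗ[C'] (M' ⧸ Nsub C' A' M') ⊗[C'] ↥J :=
  LinearMap.rTensor ↥J (piC C' A' M')

lemma mult_smul (a : A') (z : M' ⊗[C'] ↥J) : mult J M' (a • z) = a • mult J M' z := by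
  induction z using TensorProduct.induction_on with
  | zero => simp
  | tmul m j => rw [smul_tmul', mult_tmul, mult_tmul, smul_comm]
  | add x y hx hy => rw [smul_add, map_add, map_add, smul_add, hx, hy]

lemma Q_smul (a : A') (z : M' ⊗[C'] ↥J) : Q J A' M' (a • z) = a • Q J A' M' z := by
  induction z using TensorProduct.induction_on with
  | zero => simp
  | tmul m j =>
    rw [smul_tmul', LinearMap.rTensor_tmul, LinearMap.rTensor_tmul, smul_tmul']
    rfl
  | add x y hx hy => rw [smul_add, map_add, map_add, smul_add, hx, hy]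

lemma mult_mem_JM (z : M' ⊗[C'] ↥J) : mult J M' z ∈ JM J A' M' := by
  induction z using TensorProduct.induction_on with
  | zero => simp
  | tmul m j =>
    rw [mult_tmul, ← algebraMap_smul A' (j : C') m]
    exact Submodule.smul_mem_smul (Ideal.mem_map_of_mem _ j.2) Submodule.mem_top
  | add x y hx hy => rw [map_add]; exact Submodule.add_mem _ hx hy

lemma exists_mult_eq_of_mem {y : M'} (hy : y ∈ JM J A' M') : ∃ z, mult J M' z = y := by
  have h : (JM J A' M').restrictScalars C' = J • (⊤ : Submodule C' M') := by
    rw [JM, Ideal.smul_restrictScalars, Submodule.restrictScalars_top]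
  have hy' : y ∈ J • (⊤ : Submodule C' M') := by rw [← h]; exact hy
  refine Submodule.smul_induction_on hy' ?_ ?_
  · intro r hr n _
    exact ⟨n ⊗ₜ ⟨r, hr⟩, by simp⟩
  · rintro x y ⟨z1, rfl⟩ ⟨z2, rfl⟩
    exact ⟨z1 + z2, map_add _ _ _⟩

lemma Q_surjective : Function.Surjective (Q J A' M') :=
  LinearMap.rTensor_surjective _ (Submodule.mkQ_surjective (Nsub C' A' M'))

lemma Q_injective (hJ : maximalIdeal C' * J = ⊥) : Function.Injective (Q J A' M') := by
  rw [injective_iff_map_eq_zero]
  intro z hz
  have hex : Function.Exact ((Nsub C' A' M').restrictScalars C').subtype (piC C' A' M') := by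
    intro x
    constructor
    · intro hx
      have : x ∈ Nsub C' A' M' := (Submodule.Quotient.mk_eq_zero _).mp hx
      exact ⟨⟨x, this⟩, rfl⟩
    · rintro ⟨n, rfl⟩
      exact (Submodule.Quotient.mk_eq_zero _).mpr n.2
  have hex2 := rTensor_exact ↥J hex (Submodule.mkQ_surjective (Nsub C' A' M'))
  obtain ⟨w, rfl⟩ := (hex2 z).mp hz
  have hzero : ∀ w, LinearMap.rTensor ↥J ((Nsub C' A' M').restrictScalars C').subtype w = 0 := by
    intro w
    induction w using TensorProduct.induction_on with
    | zero => simp
    | tmul n j =>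
      rw [LinearMap.rTensor_tmul]
      have h : (Nsub C' A' M').restrictScalars C' = (maximalIdeal C') • (⊤ : Submodule C' M') := by
        rw [Nsub, Ideal.smul_restrictScalars, Submodule.restrictScalars_top]
      have hn : (n : M') ∈ (maximalIdeal C') • (⊤ : Submodule C' M') := by rw [← h]; exact n.2
      show (n : M') ⊗ₜ[C'] j = 0
      refine Submodule.smul_induction_on hn ?_ ?_
      · intro r hr m _
        rw [smul_tmul]
        have : r • j = 0 := by
          apply Subtype.ext
          show r * (j : C') = 0
          have : r * (j : C') ∈ maximalIdeal C' * J := Ideal.mul_mem_mul hr j.2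
          rw [hJ] at this
          exact this
        rw [this, tmul_zero]
      · intro x y hx hy
        rw [add_tmul, hx, hy, add_zero]
    | add x y hx hy => rw [map_add, hx, hy, add_zero]
  exact hzero w

end Groth.Agent.H5.DefAut
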