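import Mathlib
import Groth.Agent.Lib.Helper5.DefAut.A

set_option autoImplicit false
universe u

open TensorProduct IsLocalRing

namespace Groth.Agent.H5.DefAut

open Groth.Agent.H5.DefId

variable {C' : Type u} [CommRing C'] [IsLocalRing C'] (J : Ideal C')
variable {A' : Type u} [CommRing A'] [Algebra C' A']
variable (M' : Type u) [AddCommGroup M'] [Module A' M'] [Module C' M'] [IsScalarTower C' A' M']

lemma kill (hJ : maximalIdeal C' * J = ⊥) (a : A')
    (ha : a ∈ (maximalIdeal C').map (algebraMap C' A')) (y : M') (hy : y ∈ JM J A' M') :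
    a • y = 0 := by
  have h1 : a • y ∈ ((maximalIdeal C').map (algebraMap C' A')) • JM J A' M' :=
    Submodule.smul_mem_smul ha hy
  rw [JM, ← Submodule.mul_smul, ← Ideal.map_mul, hJ, Ideal.map_bot, Submodule.bot_smul] at h1
  exact (Submodule.mem_bot _).mp h1

lemma JM_le_Nsub (hJne : J ≠ ⊤) : JM J A' M' ≤ Nsub C' A' M' :=
  Submodule.smul_mono_left (Ideal.map_mono (IsLocalRing.le_maximalIdeal hJne))

theorem part1 [Module.Flat C' M'] (hJ : maximalIdeal C' * J = ⊥) (hJne : J ≠ ⊤)
    (σ : M' →ₗ[A'] M') (hσ : ∀ x : M', σ x - x ∈ JM J A' M') :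
    Function.Bijective σ ∧
      ∃! τ : (M' ⧸ Nsub C' A' M') →ₗ[A'] ((M' ⧸ Nsub C' A' M') ⊗[C'] ↥J),
        ∀ (x : M') (z : M' ⊗[C'] ↥J), mult J M' z = σ x - x →
          Q J A' M' z = τ (Submodule.mkQ _ x) := by
  set δ : M' →ₗ[A'] M' := σ - LinearMap.id with hδdef
  have hδ : ∀ x, δ x = σ x - x := fun x => rfl
  have hδJ : ∀ x, δ x ∈ JM J A' M' := fun x => hσ x
  have hδN : ∀ n ∈ Nsub C' A' M', δ n = 0 := by
    intro n hn
    refine Submodule.smul_induction_on hn ?_ ?_
    · intro a ha x _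
      rw [map_smul]
      exact kill J M' hJ a ha _ (hδJ x)
    · intro x y hx hy
      rw [map_add, hx, hy, add_zero]
  have hδδ : ∀ x, δ (δ x) = 0 := fun x => hδN _ (JM_le_Nsub J M' hJne (hδJ x))
  have hσx : ∀ x, σ x = x + δ x := fun x => by rw [hδ]; abel
  refine ⟨?_, ?_⟩
  · rw [Function.bijective_iff_has_inverse]
    refine ⟨fun x => x - δ x, ?_, ?_⟩
    · intro x
      show σ x - δ (σ x) = x
      rw [hσx, map_add, hδδ]
      abel
    · intro x
      show σ (x - δ x) = x
      rw [hσx, map_sub, hδδ]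
      abel
  · have hz : ∀ x, ∃ z, mult J M' z = δ x := fun x => exists_mult_eq_of_mem J M' (hδJ x)
    choose zOf hzOf using hz
    have hinj := mult_injective J M'
    let τ' : M' →ₗ[A'] ((M' ⧸ Nsub C' A' M') ⊗[C'] ↥J) :=
      { toFun := fun x => Q J A' M' (zOf x)
        map_add' := fun x y => by
          have : zOf (x + y) = zOf x + zOf y := hinj (by rw [map_add, hzOf, hzOf, hzOf, map_add])
          rw [this, map_add]
        map_smul' := fun a x => by
          have : zOf (a • x) = a • zOf x := hinj (by rw [mult_smul, hzOf, hzOf, map_smul])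
          rw [this, Q_smul, RingHom.id_apply] }
    have hτ'N : Nsub C' A' M' ≤ LinearMap.ker τ' := by
      intro n hn
      rw [LinearMap.mem_ker]
      have : zOf n = 0 := hinj (by rw [hzOf, hδN n hn, map_zero])
      show Q J A' M' (zOf n) = 0
      rw [this, map_zero]
    refine ⟨Submodule.liftQ _ τ' hτ'N, ?_, ?_⟩
    · intro x z hxz
      have : z = zOf x := hinj (by rw [hxz, hzOf, hδ])
      rw [this]
      rfl
    · intro τ₂ hτ₂
      apply LinearMap.ext
      intro y
      obtain ⟨x, rfl⟩ := Submodule.mkQ_surjective _ y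
      rw [← hτ₂ x (zOf x) (by rw [hzOf, hδ])]
      rfl

theorem part2 [Module.Flat C' M'] (hJ : maximalIdeal C' * J = ⊥)
    (τ : (M' ⧸ Nsub C' A' M') →ₗ[A'] ((M' ⧸ Nsub C' A' M') ⊗[C'] ↥J)) :
    ∃ σ : M' →ₗ[A'] M', (∀ x : M', σ x - x ∈ JM J A' M') ∧
      ∀ (x : M') (z : M' ⊗[C'] ↥J), mult J M' z = σ x - x →
        Q J A' M' z = τ (Submodule.mkQ _ x) := by
  have hinj := mult_injective J M'
  let QE := LinearEquiv.ofBijective (Q J A' M') ⟨Q_injective J M' hJ, Q_surjective J M'⟩
  have hQE : ∀ z, QE z = Q J A' M' z := fun z => rfl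
  have hQEsmul : ∀ (a : A') w, QE.symm (a • w) = a • QE.symm w := by
    intro a w
    apply QE.injective
    rw [LinearEquiv.apply_symm_apply, hQE, Q_smul, ← hQE, LinearEquiv.apply_symm_apply]
  let δ : M' →ₗ[A'] M' :=
    { toFun := fun x => mult J M' (QE.symm (τ (Submodule.mkQ _ x)))
      map_add' := fun x y => by simp only [map_add]
      map_smul' := fun a x => by
        simp only [map_smul, RingHom.id_apply]
        rw [hQEsmul, mult_smul] }
  have hσ : ∀ x, ((LinearMap.id : M' →ₗ[A'] M') + δ) x - x =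
      mult J M' (QE.symm (τ (Submodule.mkQ _ x))) := by
    intro x
    show x + mult J M' (QE.symm (τ (Submodule.mkQ _ x))) - x = _
    abel
  refine ⟨(LinearMap.id : M' →ₗ[A'] M') + δ, ?_, ?_⟩
  · intro x
    rw [hσ]
    exact mult_mem_JM J M' _
  · intro x z hxz
    rw [hσ] at hxz
    have := hinj hxz
    rw [this, ← hQE, LinearEquiv.apply_symm_apply]

end Groth.Agent.H5.DefAut
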